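import Mathlib

/-!
# Flatness from flatness of a Cartier divisor (ring level)

If `B` is a Noetherian ring, `h` a nonzerodivisor in the Jacobson radical and `B / h B` is flat
over `A`, then `B` is flat over `A`.
-/

set_option autoImplicit false
universe u v w

namespace Groth.Agent.Lib.Helper6.CartierFlat

open TensorProduct

/-- Core lemma. -/
theorem flat_of_flat_quotient_nonZeroDivisor {A : Type u} {B : Type v} {C : Type w}
    [CommRing A] [CommRing B] [CommRing C] [Algebra A B] [Algebra A C] [IsNoetherianRing B]
    (h : B) (hj : h ∈ Ideal.jacobson (⊥ : Ideal B)) (hnz : h ∈ nonZeroDivisors B)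
    (π : B →ₐ[A] C) (hπ : Function.Surjective π) (hker : RingHom.ker π.toRingHom = Ideal.span {h})
    [Module.Flat A C] : Module.Flat A B := by
  rw [Module.Flat.iff_lTensor_injective]
  intro I hI
  -- the `B`-linear version of the map
  let μ : B ⊗[A] I →ₗ[B] B ⊗[A] A := LinearMap.baseChange B I.subtype
  have hμ : ∀ z, μ z = (I.subtype.lTensor B) z := fun z => rfl
  let T : Submodule B (B ⊗[A] I) := LinearMap.ker μ
  have : Module.Finite A I := Module.Finite.of_fg hI
  have hfin : Module.Finite B (B ⊗[A] I) := inferInstance
  have hTfg : T.FG := IsNoetherian.noetherian T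
  -- multiplication by `h` as an `A`-linear map
  let mh : B →ₗ[A] B := (LinearMap.lsmul B B h).restrictScalars A
  have hex : Function.Exact mh π.toLinearMap := by
    intro b
    constructor
    · intro hb
      have : b ∈ RingHom.ker π.toRingHom := hb
      rw [hker, Ideal.mem_span_singleton'] at this
      obtain ⟨c, rfl⟩ := this
      exact ⟨c, by simp [mh, mul_comm]⟩
    · rintro ⟨c, rfl⟩
      have : h * c ∈ RingHom.ker π.toRingHom := by
        rw [hker]; exact Ideal.mul_mem_right _ _ (Ideal.mem_span_singleton_self h)
      exact this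
  have hex2 := rTensor_exact I hex hπ
  have hmh : ∀ z : B ⊗[A] I, mh.rTensor I z = h • z := by
    intro z
    induction z using TensorProduct.induction_on with
    | zero => simp
    | tmul b i => simp [mh, TensorProduct.smul_tmul']
    | add x y hx hy => rw [map_add, hx, hy, smul_add]
  have hflatC : Function.Injective (I.subtype.lTensor C) :=
    Module.Flat.lTensor_preserves_injective_linearMap _ Subtype.val_injective
  have hTle : T ≤ Ideal.span {h} • T := by
    intro z hz
    have hz0 : (I.subtype.lTensor B) z = 0 := hz
    have h1 : (I.subtype.lTensor C) (π.toLinearMap.rTensor I z) = 0 := by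
      have : (I.subtype.lTensor C) (π.toLinearMap.rTensor I z) =
          π.toLinearMap.rTensor A ((I.subtype.lTensor B) z) := by
        rw [← LinearMap.comp_apply, ← LinearMap.comp_apply, LinearMap.lTensor_comp_rTensor,
          LinearMap.rTensor_comp_lTensor]
      rw [this, hz0, map_zero]
    have h2 : π.toLinearMap.rTensor I z = 0 := hflatC (by rw [h1, map_zero])
    obtain ⟨z', hz'⟩ := (hex2 z).mp h2
    rw [hmh] at hz'
    have hz'T : z' ∈ T := by
      show μ z' = 0
      have h3 : h • μ z' = 0 := by
        rw [← map_smul, hz']
        exact hz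
      -- `h` is a nonzerodivisor on `B ⊗[A] A ≃ B`
      have h4 : (TensorProduct.rid A B) (h • μ z') = h * (TensorProduct.rid A B) (μ z') := by
        generalize μ z' = w
        induction w using TensorProduct.induction_on with
        | zero => simp
        | tmul b a => simp [TensorProduct.smul_tmul']
        | add x y hx hy => rw [smul_add, map_add, map_add, hx, hy, mul_add]
      rw [h3, map_zero] at h4
      have h5 : (TensorProduct.rid A B) (μ z') = 0 :=
        (mul_left_mem_nonZeroDivisors_eq_zero_iff hnz).mp h4.symm
      exact (TensorProduct.rid A B).injective (by rw [h5, map_zero])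
    rw [← hz']
    exact Submodule.smul_mem_smul (Ideal.mem_span_singleton_self h) hz'T
  have hTbot : T = ⊥ :=
    Submodule.eq_bot_of_le_smul_of_le_jacobson_bot _ _ hTfg hTle
      ((Ideal.span_singleton_le_iff_mem _).mpr hj)
  rw [injective_iff_map_eq_zero]
  intro z hz
  have : z ∈ T := hz
  rw [hTbot] at this
  exact this

end Groth.Agent.Lib.Helper6.CartierFlat

namespace Groth.Agent.Lib.Helper6.CartierFlat

/-- Localized form: `g : B → C` surjective with kernel `(h)`, `h` a nonzerodivisor, `q'` a prime
of `C`, `q = g⁻¹ q'`, and `ψ : A' → B_q` with `A' → B_q → C_q'` flat; then `ψ` is flat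
(assuming `B_q` Noetherian). -/
theorem flat_of_comp_localRingHom {A' : Type u} {B : Type v} {C : Type w}
    [CommRing A'] [CommRing B] [CommRing C]
    (g : B →+* C) (hg : Function.Surjective g) (h : B) (hker : RingHom.ker g = Ideal.span {h})
    (hnz : h ∈ nonZeroDivisors B) (q' : Ideal C) [q'.IsPrime] (q : Ideal B) [q.IsPrime]
    (hq : q = q'.comap g) [IsNoetherianRing (Localization.AtPrime q)]
    (ψ : A' →+* Localization.AtPrime q)
    (hfl : ((Localization.localRingHom q q' g hq).comp ψ).Flat) : ψ.Flat := by
  let loc := Localization.localRingHom q q' g hq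
  let _ : Algebra A' (Localization.AtPrime q) := ψ.toAlgebra
  let _ : Algebra A' (Localization.AtPrime q') := (loc.comp ψ).toAlgebra
  let π : Localization.AtPrime q →ₐ[A'] Localization.AtPrime q' :=
    { loc with commutes' := fun _ => rfl }
  have hflC : Module.Flat A' (Localization.AtPrime q') := hfl
  have hhq : h ∈ q := by
    rw [hq, Ideal.mem_comap]
    have : g h = 0 := by
      have : h ∈ RingHom.ker g := by rw [hker]; exact Ideal.mem_span_singleton_self h
      exact this
    rw [this]; exact Ideal.zero_mem _
  have hsurj : Function.Surjective π := by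
    intro c
    obtain ⟨c, t, rfl⟩ := IsLocalization.exists_mk'_eq q'.primeCompl c
    obtain ⟨b, rfl⟩ := hg c
    obtain ⟨s, hs⟩ := hg t.1
    have hsq : s ∈ q.primeCompl := by
      intro hsq
      rw [hq] at hsq
      have hsq' : g s ∈ q' := hsq
      rw [hs] at hsq'
      exact t.2 hsq'
    refine ⟨IsLocalization.mk' _ b ⟨s, hsq⟩, ?_⟩
    show loc _ = _
    rw [Localization.localRingHom_mk']
    congr 1
    exact Subtype.ext hs
  have hmap : Submonoid.map g q.primeCompl = q'.primeCompl := by
    ext t
    constructor
    · rintro ⟨s, hs, rfl⟩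
      intro hgs
      apply hs
      rw [hq]; exact hgs
    · intro ht
      obtain ⟨s, rfl⟩ := hg t
      refine ⟨s, ?_, rfl⟩
      intro hsq
      rw [hq] at hsq
      exact ht hsq
  have hkerπ : RingHom.ker π.toRingHom =
      Ideal.span {algebraMap B (Localization.AtPrime q) h} := by
    have := IsLocalization.ker_map (M := q.primeCompl) (S := Localization.AtPrime q)
      (T := q'.primeCompl) (Localization.AtPrime q') g hmap
    rw [hker, Ideal.map_span, Set.image_singleton] at this
    rw [← this]
    rfl
  refine flat_of_flat_quotient_nonZeroDivisor (A := A') (B := Localization.AtPrime q)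
    (C := Localization.AtPrime q') (algebraMap B (Localization.AtPrime q) h) ?_ ?_ π hsurj hkerπ
  · rw [IsLocalRing.jacobson_eq_maximalIdeal ⊥ bot_ne_top]
    exact (IsLocalization.AtPrime.to_map_mem_maximal_iff _ q h).mpr hhq
  · exact IsLocalization.map_nonZeroDivisors_le q.primeCompl (Localization.AtPrime q)
      ⟨h, hnz, rfl⟩

end Groth.Agent.Lib.Helper6.CartierFlat
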